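import Mathlib.RingTheory.GradedAlgebra.Basic
import Mathlib.Algebra.GradedMulAction
import Mathlib.Algebra.Module.GradedModule
import Mathlib.LinearAlgebra.Matrix.Charpoly.LinearMap
import Mathlib.Algebra.Module.Projective
import Mathlib.LinearAlgebra.Dimension.StrongRankCondition
import Mathlib.LinearAlgebra.Finsupp.LinearCombination
import Mathlib.RingTheory.Ideal.Quotient.Operations
import Mathlib.Algebra.Module.Torsion.Basic
import Mathlib.LinearAlgebra.FreeModule.StrongRankCondition
import Mathlib.LinearAlgebra.Matrix.ToLin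
import Mathlib.RingTheory.Finiteness.Prod
import Mathlib.Algebra.DirectSum.Decomposition

/-! Homogeneous local frames of graded projective modules. -/

universe u v w x

namespace Groth.L14.GrFree

open DirectSum

variable {A : Type w} [CommRing A]

theorem exists_notMem_smul_eq_zero {X : Type x} [AddCommGroup X] [Module A X] [Module.Finite A X]
    (m : Ideal A) [m.IsPrime] (u : A) (hu : u ∉ m) (h : ∀ x : X, u • x ∈ m • (⊤ : Submodule A X)) :
    ∃ t ∉ m, ∀ x : X, t • x = 0 := by
  obtain ⟨χ, hmonic, hdeg, hcoeff, haev⟩ := LinearMap.exists_monic_and_natDegree_eq_and_coeff_mem_pow_and_aeval_eq_zero A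
    (algebraMap A (Module.End A X) u) m (fun z ⟨y, hy⟩ => hy ▸ h y)
  rw [Polynomial.aeval_algebraMap_apply_eq_algebraMap_eval] at haev
  refine ⟨χ.eval u, fun hmem => hu ?_, fun x => ?_⟩
  · rw [Polynomial.eval_eq_sum_range, Finset.sum_range_succ, hmonic.coeff_natDegree, one_mul] at hmem
    refine ‹m.IsPrime›.mem_of_pow_mem χ.natDegree ((Ideal.add_mem_iff_right _ (Submodule.sum_mem _ fun i hi => ?_)).1 hmem)
    refine Ideal.mul_mem_right _ _ (Ideal.pow_le_self ?_ (hcoeff i))
    have := Finset.mem_range.1 hi; omega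
  · have h' := LinearMap.congr_fun haev x
    rwa [Module.algebraMap_end_apply, LinearMap.zero_apply] at h'

variable {P : Type x} [AddCommGroup P] [Module A P]

/-- An annihilator of the cokernel and of the relations of a local frame. -/
theorem exists_kill [Module.Finite A P] [Module.Projective A P] (m : Ideal A) [m.IsPrime] {n : ℕ} (f : Fin n → P)
    (H1 : ∀ p : P, ∃ u ∉ m, u • p ∈ Submodule.span A (Set.range f) ⊔ m • (⊤ : Submodule A P))
    (H2 : ∀ c : Fin n → A, ∑ i, c i • f i ∈ m • (⊤ : Submodule A P) → ∀ i, c i ∈ m) :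
    ∃ a ∉ m, (∀ p : P, a • p ∈ Submodule.span A (Set.range f)) ∧
      ∀ c : Fin n → A, ∑ i, c i • f i = 0 → ∀ l, a * c l = 0 := by
  classical
  let N := Submodule.span A (Set.range f)
  obtain ⟨s, hs, hsP⟩ : ∃ s ∉ m, ∀ x : P ⧸ N, s • x = 0 := by
    obtain ⟨G, hG⟩ := Module.finite_def.1 ‹Module.Finite A P›
    choose u hu hup using H1
    refine exists_notMem_smul_eq_zero m (∏ g ∈ G, u g) (fun h => ?_) fun x => ?_
    · obtain ⟨g, -, hg⟩ := (‹m.IsPrime›.prod_mem_iff).1 h
      exact hu g hg
    · obtain ⟨p, rfl⟩ := N.mkQ_surjective x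
      have hp : p ∈ Submodule.span A (G : Set P) := hG ▸ Submodule.mem_top
      induction hp using Submodule.span_induction with
      | zero => simp
      | add y z _ _ hy hz => rw [map_add, smul_add]; exact add_mem hy hz
      | smul c y _ hy => rw [map_smul, smul_comm]; exact Submodule.smul_mem _ _ hy
      | mem g hg =>
        rw [← Finset.prod_erase_mul G u hg, mul_smul, ← map_smul N.mkQ]
        refine Submodule.smul_mem _ _ ?_
        have := Submodule.mem_map_of_mem (f := N.mkQ) (hup g)
        rwa [Submodule.map_sup, Submodule.mkQ_map_self, bot_sup_eq, Submodule.map_smul'', Submodule.map_top, Submodule.range_mkQ] at this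
  have hsN : ∀ p, s • p ∈ N := fun p => (Submodule.Quotient.mk_eq_zero N).1 (by rw [Submodule.Quotient.mk_smul]; exact hsP _)
  let φ : (Fin n → A) →ₗ[A] P := Fintype.linearCombination A f
  have hrange : LinearMap.range φ = N := Fintype.range_linearCombination A f
  let sP : P →ₗ[A] N := (s • (LinearMap.id : P →ₗ[A] P)).codRestrict N fun p => hsN p
  obtain ⟨ψ, hψ⟩ := Module.projective_lifting_property (φ.codRestrict N fun c => hrange ▸ LinearMap.mem_range_self φ c) sP (by
    rintro ⟨y, hy⟩
    obtain ⟨c, hc⟩ := LinearMap.mem_range.1 (hrange.symm ▸ hy)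
    exact ⟨c, Subtype.ext hc⟩)
  have hψ' : ∀ p, φ (ψ p) = s • p := fun p => congrArg Subtype.val (LinearMap.congr_fun hψ p)
  let π : (Fin n → A) →ₗ[A] (Fin n → A) := s • LinearMap.id - ψ.comp φ
  have hπ : ∀ c, φ (π c) = 0 := fun c => by simp [π, hψ']
  let Q := LinearMap.range π
  obtain ⟨t, ht, htQ⟩ : ∃ t ∉ m, ∀ q : Q, t • q = 0 := by
    haveI : Module.Finite A Q := Module.Finite.range π
    refine exists_notMem_smul_eq_zero (X := Q) m s hs fun q => ?_
    obtain ⟨c, hc⟩ := q.2
    have hq : φ q.1 = 0 := hc ▸ hπ c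
    have hmem : ∀ i, q.1 i ∈ m := H2 q.1 (by rw [← Fintype.linearCombination_apply, show Fintype.linearCombination A f q.1 = 0 from hq]; exact zero_mem _)
    have hsum : s • q = ∑ i, q.1 i • (⟨π (Pi.single i 1), LinearMap.mem_range_self π _⟩ : Q) := by
      apply Subtype.ext
      rw [Submodule.coe_smul, Submodule.coe_sum]
      simp only [Submodule.coe_smul]
      rw [show (s • q.1 : Fin n → A) = π q.1 by simp [π, hq]]
      conv_lhs => rw [pi_eq_sum_univ' q.1, map_sum]
      simp only [map_smul]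
    rw [hsum]
    exact Submodule.sum_mem _ fun i _ => Submodule.smul_mem_smul (hmem i) Submodule.mem_top
  refine ⟨t * s, fun h => (‹m.IsPrime›.mem_or_mem h).elim ht hs, fun p => ?_, fun c hc l => ?_⟩
  · rw [mul_smul]; exact Submodule.smul_mem _ t (hsN p)
  · have h1 : φ c = 0 := by rw [← hc]; exact Fintype.linearCombination_apply A f c
    have h2 := congrFun (congrArg Subtype.val (htQ ⟨π c, LinearMap.mem_range_self π c⟩)) l
    simp [π, h1, ← mul_assoc] at h2
    exact h2

variable {k : Type u} [CommRing k] {M : Type v} [AddCommGroup M] [DecidableEq M] [Algebra k A]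
  (𝒜 : M → Submodule k A) [GradedAlgebra 𝒜] [Module k P] (ℳ : M → Submodule k P)
  [Decomposition ℳ] [SetLike.GradedSMul 𝒜 ℳ]

theorem decompose_smul_add {f : P} {j : M} (hf : f ∈ ℳ j) (a : A) (i : M) :
    (decompose ℳ (a • f) (i + j) : P) = (decompose 𝒜 a i : A) • f := by
  induction a using DirectSum.Decomposition.inductionOn 𝒜 with
  | zero => simp
  | homogeneous a =>
    rename_i e
    by_cases h : e = i
    · subst h
      have h' : (a : A) • f ∈ ℳ (e + j) := SetLike.GradedSMul.smul_mem a.2 hf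
      rw [DirectSum.decompose_of_mem_same 𝒜 a.2, DirectSum.decompose_of_mem_same ℳ h']
    · rw [DirectSum.decompose_of_mem_ne 𝒜 a.2 h, zero_smul]
      exact DirectSum.decompose_of_mem_ne ℳ (SetLike.GradedSMul.smul_mem a.2 hf) (fun h' => h (add_right_cancel h'))
  | add a b ha hb => simp only [add_smul, DirectSum.decompose_add, DirectSum.add_apply, Submodule.coe_add, ha, hb]

variable {n : ℕ} {wt : Fin n → M} {f : Fin n → P}

include 𝒜 in
theorem component_mem_span (hf : ∀ i, f i ∈ ℳ (wt i)) {x : P} (hx : x ∈ Submodule.span A (Set.range f)) (d : M) :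
    (decompose ℳ x d : P) ∈ Submodule.span A (Set.range f) := by
  obtain ⟨c, rfl⟩ := (Submodule.mem_span_range_iff_exists_fun A).1 hx
  rw [DirectSum.decompose_sum, DFinsupp.finsetSum_apply, Submodule.coe_sum]
  refine Submodule.sum_mem _ fun l _ => ?_
  rw [← sub_add_cancel d (wt l), decompose_smul_add 𝒜 ℳ (hf l)]
  exact Submodule.smul_mem _ _ (Submodule.subset_span ⟨l, rfl⟩)

/-- Homogeneous components of an element killing cokernel and relations do so as well. -/
theorem component_kill (hf : ∀ i, f i ∈ ℳ (wt i)) {a : A}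
    (ha : ∀ p : P, a • p ∈ Submodule.span A (Set.range f))
    (hc : ∀ c : Fin n → A, ∑ i, c i • f i = 0 → ∀ l, a * c l = 0) (i : M) :
    (∀ p : P, (decompose 𝒜 a i : A) • p ∈ Submodule.span A (Set.range f)) ∧
      ∀ c : Fin n → A, ∑ i, c i • f i = 0 → ∀ l, (decompose 𝒜 a i : A) * c l = 0 := by
  classical
  refine ⟨fun p => ?_, fun c h l => ?_⟩
  · rw [← DirectSum.sum_support_decompose ℳ p, Finset.smul_sum]
    refine Submodule.sum_mem _ fun j _ => ?_
    rw [← decompose_smul_add 𝒜 ℳ (decompose ℳ p j).2]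
    exact component_mem_span 𝒜 ℳ hf (ha _) _
  · rw [← DirectSum.sum_support_decompose 𝒜 (c l), Finset.mul_sum]
    refine Finset.sum_eq_zero fun e _ => ?_
    let c' : Fin n → A := fun r => (decompose 𝒜 (c r) (e + wt l - wt r) : A)
    have hrel : ∑ r, c' r • f r = 0 := by
      let pr : P →+ P := AddMonoidHom.mk' (fun x => (decompose ℳ x (e + wt l) : P)) (fun x y => by simp)
      have h' := congrArg pr h
      rw [map_sum, map_zero] at h'
      rw [← h']
      refine Finset.sum_congr rfl fun r _ => ?_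
      have h2 := decompose_smul_add 𝒜 ℳ (hf r) (c r) (e + wt l - wt r)
      rw [sub_add_cancel] at h2
      exact h2.symm
    have h1 := hc c' hrel l
    have he : c' l = (decompose 𝒜 (c l) e : A) := congrArg (fun z => (decompose 𝒜 (c l) z : A)) (add_sub_cancel_right e (wt l))
    rw [he] at h1
    rw [← DirectSum.coe_decompose_mul_add_of_right_mem 𝒜 (decompose 𝒜 (c l) e).2, h1]
    simp

include 𝒜 in
/-- A homogeneous element realising the local frame. -/
theorem exists_homogeneous_kill [Module.Finite A P] [Module.Projective A P] (m : Ideal A) [m.IsPrime]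
    (hf : ∀ i, f i ∈ ℳ (wt i))
    (H1 : ∀ p : P, ∃ u ∉ m, u • p ∈ Submodule.span A (Set.range f) ⊔ m • (⊤ : Submodule A P))
    (H2 : ∀ c : Fin n → A, ∑ i, c i • f i ∈ m • (⊤ : Submodule A P) → ∀ i, c i ∈ m) :
    ∃ (i : M) (s : A), s ∈ 𝒜 i ∧ s ∉ m ∧ (∀ p : P, ∃ c : Fin n → A, s • p = ∑ i, c i • f i) ∧
      ∀ c : Fin n → A, ∑ i, c i • f i = 0 → ∀ l, s * c l = 0 := by
  classical
  obtain ⟨a, ha, h1, h2⟩ := exists_kill m f H1 H2
  obtain ⟨i, hi⟩ : ∃ i, (decompose 𝒜 a i : A) ∉ m := by
    by_contra! h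
    exact ha (DirectSum.sum_support_decompose 𝒜 a ▸ Submodule.sum_mem _ fun i _ => h i)
  obtain ⟨h1', h2'⟩ := component_kill 𝒜 ℳ hf h1 h2 i
  exact ⟨i, _, (decompose 𝒜 a i).2, hi,
    fun p => ((Submodule.mem_span_range_iff_exists_fun A).1 (h1' p)).imp fun _ h => h.symm, h2'⟩

include 𝒜 in
/-- Homogeneous frames exist at every prime. -/
theorem exists_frame [Module.Finite A P] (m : Ideal A) [m.IsPrime] :
    ∃ (n : ℕ) (wt : Fin n → M) (f : Fin n → P), (∀ i, f i ∈ ℳ (wt i)) ∧
      (∀ p : P, ∃ u ∉ m, u • p ∈ Submodule.span A (Set.range f) ⊔ m • (⊤ : Submodule A P)) ∧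
      (∀ c : Fin n → A, ∑ i, c i • f i ∈ m • (⊤ : Submodule A P) → ∀ i, c i ∈ m) := by
  classical
  let Pr : ℕ → Prop := fun n => ∃ (wt : Fin n → M) (f : Fin n → P), (∀ i, f i ∈ ℳ (wt i)) ∧
    (∀ c : Fin n → A, ∑ i, c i • f i ∈ m • (⊤ : Submodule A P) → ∀ i, c i ∈ m)
  obtain ⟨G, hG⟩ := Module.finite_def.1 ‹Module.Finite A P›
  have hbound : ∀ n, Pr n → n ≤ G.card := by
    rintro n ⟨wt, f, -, h2⟩
    have hli : LinearIndependent (A ⧸ m) (fun i => (Submodule.Quotient.mk (f i) : P ⧸ (m • (⊤ : Submodule A P)))) := by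
      rw [Fintype.linearIndependent_iff]
      intro g hg i
      choose c hc using fun i => Ideal.Quotient.mk_surjective (g i)
      have hc' : ∀ j, g j • (Submodule.Quotient.mk (f j) : P ⧸ (m • (⊤ : Submodule A P))) = Submodule.Quotient.mk (c j • f j) := fun j => by
        rw [← hc j]; rfl
      rw [← hc i, Ideal.Quotient.eq_zero_iff_mem]
      refine h2 c ?_ i
      rw [← Submodule.Quotient.mk_eq_zero, ← hg]
      rw [← Submodule.mkQ_apply, map_sum]
      exact Finset.sum_congr rfl fun j _ => (hc' j).symm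
    have hspan : Submodule.span (A ⧸ m) ((G.image fun g => (Submodule.Quotient.mk g : P ⧸ (m • (⊤ : Submodule A P)))) : Set (P ⧸ (m • (⊤ : Submodule A P)))) = ⊤ := by
      refine top_unique fun x _ => ?_
      obtain ⟨p, rfl⟩ := Submodule.Quotient.mk_surjective _ x
      have hp : p ∈ Submodule.span A (G : Set P) := hG ▸ Submodule.mem_top
      induction hp using Submodule.span_induction with
      | mem g hg => exact Submodule.subset_span (Finset.mem_image_of_mem _ hg)
      | zero => exact zero_mem _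
      | add y z _ _ hy hz => exact add_mem (hy Submodule.mem_top) (hz Submodule.mem_top)
      | smul c y _ hy => exact Submodule.smul_mem _ (Ideal.Quotient.mk m c) (hy Submodule.mem_top)
    haveI : Nontrivial (A ⧸ m) := Ideal.Quotient.nontrivial_iff.2 ‹m.IsPrime›.ne_top
    have h := linearIndependent_le_span_finset _ hli _ hspan
    simp at h
    exact le_trans h Finset.card_image_le
  have h0 : Pr 0 := ⟨Fin.elim0, Fin.elim0, fun i => i.elim0, fun _ _ i => i.elim0⟩
  let N0 := Nat.findGreatest Pr G.card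
  obtain ⟨wt, f, hf, h2⟩ : Pr N0 := Nat.findGreatest_spec (Nat.zero_le _) h0
  refine ⟨N0, wt, f, hf, fun p => ?_, h2⟩
  have hhom : ∀ (d : M) (q : P), q ∈ ℳ d → ∃ u ∉ m, u • q ∈ Submodule.span A (Set.range f) ⊔ m • (⊤ : Submodule A P) := by
    intro d q hq
    by_contra! hne
    have hext : Pr (N0 + 1) := by
      refine ⟨Fin.cons d wt, Fin.cons q f, fun i => by induction i using Fin.cases <;> simp [hq, hf], fun c hc => ?_⟩
      rw [Fin.sum_univ_succ] at hc
      simp only [Fin.cons_zero, Fin.cons_succ] at hc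
      by_cases h : c 0 ∈ m
      · have h' : ∑ i, c (Fin.succ i) • f i ∈ m • (⊤ : Submodule A P) :=
          (Submodule.add_mem_iff_right _ (Submodule.smul_mem_smul h Submodule.mem_top)).1 hc
        intro i
        induction i using Fin.cases with
        | zero => exact h
        | succ j => exact h2 _ h' j
      · refine absurd ?_ (hne _ h)
        rw [← add_sub_cancel_right (c 0 • q) (∑ i, c (Fin.succ i) • f i)]
        exact sub_mem (Submodule.mem_sup_right hc) (Submodule.mem_sup_left (Submodule.sum_mem _ fun i _ => Submodule.smul_mem _ _ (Submodule.subset_span ⟨i, rfl⟩)))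
    have := Nat.le_findGreatest (hbound _ hext) hext
    omega
  choose u hu hup using fun d => hhom d (decompose ℳ p d) (decompose ℳ p d).2
  refine ⟨∏ d ∈ (decompose ℳ p).support, u d, fun h => ?_, ?_⟩
  · obtain ⟨d, -, hd⟩ := (‹m.IsPrime›.prod_mem_iff).1 h
    exact hu d hd
  · conv => arg 2; arg 2; rw [← DirectSum.sum_support_decompose ℳ p]
    rw [Finset.smul_sum]
    refine Submodule.sum_mem _ fun d hd => ?_
    rw [← Finset.prod_erase_mul _ u hd, mul_smul]
    exact Submodule.smul_mem _ _ (hup d)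

end Groth.L14.GrFree
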